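import Groth.Prelude.Def_W4c5stcicurvesp3Euclid
import Mathlib.Algebra.BigOperators.Intervals
import Mathlib.Algebra.Order.Field.Basic
import Mathlib.Data.Rat.Cast.Defs
import Mathlib.Tactic.Linarith
import Mathlib.Tactic.Ring
import Mathlib.Tactic.FieldSimp
import Mathlib.Tactic.Positivity

namespace GrothLib.Euclid26
open W4c5stcicurvesp3

lemma irem_succ (a b : ℕ) (h : a % b ≠ 0) : ∀ i, irem a b (i + 1) = irem b (a % b) i
  | 0 => by simp [irem]
  | 1 => by
    show (if irem a b 1 = 0 then 0 else irem a b 0 % irem a b 1) = _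
    simp [irem, h]
  | (i + 2) => by
    show (if irem a b (i + 2) = 0 then 0 else irem a b (i + 1) % irem a b (i + 2)) = _
    rw [irem_succ a b h (i + 1), irem_succ a b h i]
    conv_rhs => rw [irem]

lemma idiv_succ (a b : ℕ) (h : a % b ≠ 0) : ∀ i, idiv a b (i + 2) = idiv b (a % b) (i + 1)
  | 0 => by simp [idiv, irem, h]
  | (i + 1) => by
    show (if irem a b (i + 2) = 0 then 0 else irem a b (i + 1) / irem a b (i + 2)) = _
    rw [irem_succ a b h (i + 1), irem_succ a b h i]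
    conv_rhs => rw [idiv]

/-- remainders strictly decrease while nonzero -/
lemma irem_succ_lt (a b : ℕ) (hb : 0 < b) : ∀ i, irem a b i ≠ 0 → irem a b (i + 1) < irem a b i
  | 0, _ => by simpa [irem] using Nat.mod_lt _ hb
  | (i + 1), h => by
    show (if irem a b (i + 1) = 0 then 0 else irem a b i % irem a b (i + 1)) < _
    rw [if_neg h]
    exact Nat.mod_lt _ (Nat.pos_of_ne_zero h)

lemma one_le_idiv (a b : ℕ) (hb : 0 < b) (i : ℕ) (h : irem a b (i + 1) ≠ 0) (h' : irem a b i ≠ 0) :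
    1 ≤ idiv a b (i + 2) := by
  show 1 ≤ (if irem a b (i + 1) = 0 then 0 else irem a b i / irem a b (i + 1))
  rw [if_neg h]
  exact (Nat.one_le_div_iff (Nat.pos_of_ne_zero h)).2 (irem_succ_lt a b hb i h').le

lemma sum_idiv_mul_gcd_le : ∀ (t a b : ℕ), 0 < b → b ≤ a → irem a b (t + 1) = 0 →
    (∀ i, 0 < i → i < t + 1 → irem a b i ≠ 0) →
    (∑ i ∈ Finset.Icc 1 (t + 1), idiv a b i) * Nat.gcd b a ≤ a
  | 0, a, b, hb, _, hz, _ => by
    simp only [irem] at hz
    simp [idiv, Nat.gcd_eq_left (Nat.dvd_of_mod_eq_zero hz), Nat.div_mul_le_self]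
  | (t + 1), a, b, hb, hab, hz, hmin => by
    have hr : a % b ≠ 0 := hmin 1 one_pos (by omega)
    have ih := sum_idiv_mul_gcd_le t b (a % b) (Nat.pos_of_ne_zero hr) (Nat.mod_lt _ hb).le
      (by rw [← irem_succ a b hr]; exact hz)
      (fun i hi hit => by rw [← irem_succ a b hr]; exact hmin _ (by omega) (by omega))
    rw [← Nat.gcd_rec] at ih
    have hsum : (∑ i ∈ Finset.Icc 1 (t + 1 + 1), idiv a b i) =
        a / b + ∑ i ∈ Finset.Icc 1 (t + 1), idiv b (a % b) i := by
      rw [← Finset.Ico_add_one_right_eq_Icc, ← Finset.Ico_add_one_right_eq_Icc,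
        Finset.sum_Ico_eq_sum_range, Finset.sum_Ico_eq_sum_range,
        show t + 1 + 1 + 1 - 1 = (t + 1) + 1 by omega, show t + 1 + 1 - 1 = t + 1 by omega,
        Finset.sum_range_succ', add_comm]
      refine congrArg₂ (· + ·) (by simp [idiv]) (Finset.sum_congr rfl fun i _ => ?_)
      rw [show 1 + (i + 1) = i + 2 by omega, idiv_succ a b hr, add_comm 1 i]
    rw [hsum, add_mul]
    have hg : Nat.gcd b a ≤ a % b :=
      Nat.le_of_dvd (Nat.pos_of_ne_zero hr) ((Nat.dvd_mod_iff (Nat.gcd_dvd_left b a)).2 (Nat.gcd_dvd_right b a))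
    have hq : 1 ≤ a / b := (Nat.one_le_div_iff hb).2 hab
    have hN := Nat.div_add_mod a b
    have hlt := Nat.mod_lt a hb
    nlinarith [Nat.mul_le_mul_right (b - Nat.gcd b a) hq,
      Nat.sub_add_cancel (hg.trans hlt.le)]

/-- The algebraic core of the three-term bound. -/
lemma core {K : Type*} [Field K] [LinearOrder K] [IsStrictOrderedRing K] (d1 d2 k N r1 r2 : K)
    (hd1 : 2 ≤ d1) (hd2 : 2 ≤ d2 ∨ d2 = 1) (hr2 : 0 ≤ r2) (hr1 : 0 < r1) (hk : r1 < k)
    (hN : N = d1 * k + r1) (hkr : k = d2 * r1 + r2) :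
    (k - r1) / d1 + (r1 - r2) / (d1 + d2) + r2 / (d1 + d2 + 1) ≤ k ^ 2 / N := by
  have hd2' : 0 < d2 := by rcases hd2 with h | h <;> linarith
  have hD : 0 < d1 + d2 := by linarith
  have hNpos : 0 < N := by nlinarith
  have hd1pos : 0 < d1 := by linarith
  rcases hd2 with h2 | h2
  · have h : (r1 - r2) / (d1 + d2) + r2 / (d1 + d2 + 1) ≤ r1 / (d1 + d2) := by
      have h' : r2 / (d1 + d2 + 1) ≤ r2 / (d1 + d2) :=
        div_le_div_of_nonneg_left hr2 hD (by linarith)
      rw [sub_div]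
      linarith
    have h' : (k - r1) / d1 + r1 / (d1 + d2) ≤ k ^ 2 / N := by
      rw [div_add_div _ _ hd1pos.ne' hD.ne', div_le_div_iff₀ (mul_pos hd1pos hD) hNpos]
      subst hN
      nlinarith [mul_nonneg (mul_nonneg hr1.le (show (0 : K) ≤ k by linarith))
        (show (0 : K) ≤ d1 * d2 - d1 - d2 by nlinarith), mul_nonneg (mul_nonneg hr1.le hr1.le) hd2'.le]
    linarith
  · subst h2
    have hr2e : r2 = k - r1 := by linarith
    subst hr2e
    have key : (k - r1) / d1 + (r1 - (k - r1)) / (d1 + 1) + (k - r1) / (d1 + 1 + 1) - k ^ 2 / N =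
        (k - r1) * (r1 * (d1 + 2) - d1 * N) / (d1 * (d1 + 1) * (d1 + 1 + 1) * N) := by
      have hN0 : N ≠ 0 := hNpos.ne'
      field_simp
      rw [hN]
      ring
    have : (k - r1) * (r1 * (d1 + 2) - d1 * N) / (d1 * (d1 + 1) * (d1 + 1 + 1) * N) ≤ 0 := by
      apply div_nonpos_of_nonpos_of_nonneg
      · apply mul_nonpos_of_nonneg_of_nonpos (by linarith)
        subst hN
        nlinarith [mul_le_mul_of_nonneg_left hk.le (show (0 : K) ≤ d1 * d1 by positivity),
          mul_nonneg (show (0 : K) ≤ d1 - 2 by linarith) hr1.le]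
      · positivity
    linarith

end GrothLib.Euclid26
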